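import Cfsg.Agent.Lib.Helper60.J1.Spec

/-! Elements of `Cfsg.Spor.J1` of each order 1, 2, 3, 5, 6, 7, 10, 11, 15, 19. -/

set_option autoImplicit false

namespace Cfsg.Agent.Lib.Helper60.J1

open Cfsg.Spor

theorem orderOf_eq_mul_primes {G : Type*} [Group G] (x : G) (p q : ℕ) (hp : p.Prime) (hq : q.Prime)
    (h1 : x ^ (p * q) = 1) (h2 : x ^ p ≠ 1) (h3 : x ^ q ≠ 1) : orderOf x = p * q := by
  refine orderOf_eq_of_pow_and_pow_div_prime (Nat.mul_pos hp.pos hq.pos) h1 ?_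
  intro r hr hrd
  rcases (Nat.Prime.dvd_mul hr).mp hrd with h | h
  · have e := (Nat.prime_dvd_prime_iff_eq hr hp).mp h
    rw [e, Nat.mul_div_cancel_left _ hp.pos]
    exact h3
  · have e := (Nat.prime_dvd_prime_iff_eq hr hq).mp h
    rw [e, Nat.mul_div_cancel _ hq.pos]
    exact h2

def e6 : GLm := jankoY * jankoY * jankoY * jankoX
def E6 : ℕ := mulP (mulP (mulP Yp Yp) Yp) Xp
theorem e6_mem : e6 ∈ J1 := Subgroup.mul_mem _ (Subgroup.mul_mem _ (Subgroup.mul_mem _ jY_mem jY_mem) jY_mem) jX_mem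
theorem e6_val : (e6 : Mat) = toMat E6 := by
  simp only [e6, E6, Units.val_mul, jankoX_val, jankoY_val, toMat_mulP]
theorem e6_pow : e6 ^ 6 = 1 :=
  pow_eq_one_of e6 E6 e6_val 6 (pw6 E6) (toMat_pw6 E6) (by decide +kernel)
theorem e6_order : orderOf e6 = 6 :=
  orderOf_eq_mul_primes e6 3 2 (by norm_num) (by norm_num) e6_pow
    (pow_ne_one_of e6 E6 e6_val 3 (pw3 E6) (toMat_pw3 E6) (by decide +kernel))
    (pow_ne_one_of e6 E6 e6_val 2 (pw2 E6) (toMat_pw2 E6) (by decide +kernel))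

def e10 : GLm := jankoY * jankoX
def E10 : ℕ := mulP Yp Xp
theorem e10_mem : e10 ∈ J1 := Subgroup.mul_mem _ jY_mem jX_mem
theorem e10_val : (e10 : Mat) = toMat E10 := by
  simp only [e10, E10, Units.val_mul, jankoX_val, jankoY_val, toMat_mulP]
theorem e10_pow : e10 ^ 10 = 1 :=
  pow_eq_one_of e10 E10 e10_val 10 (pw10 E10) (toMat_pw10 E10) (by decide +kernel)
theorem e10_order : orderOf e10 = 10 :=
  orderOf_eq_mul_primes e10 5 2 (by norm_num) (by norm_num) e10_pow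
    (pow_ne_one_of e10 E10 e10_val 5 (pw5 E10) (toMat_pw5 E10) (by decide +kernel))
    (pow_ne_one_of e10 E10 e10_val 2 (pw2 E10) (toMat_pw2 E10) (by decide +kernel))

def e15 : GLm := jankoY * jankoY * jankoX * jankoY * jankoX * jankoY * jankoY * jankoX * jankoX
def E15 : ℕ := mulP (mulP (mulP (mulP (mulP (mulP (mulP (mulP Yp Yp) Xp) Yp) Xp) Yp) Yp) Xp) Xp
theorem e15_mem : e15 ∈ J1 := Subgroup.mul_mem _ (Subgroup.mul_mem _ (Subgroup.mul_mem _ (Subgroup.mul_mem _ (Subgroup.mul_mem _ (Subgroup.mul_mem _ (Subgroup.mul_mem _ (Subgroup.mul_mem _ jY_mem jY_mem) jX_mem) jY_mem) jX_mem) jY_mem) jY_mem) jX_mem) jX_mem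
theorem e15_val : (e15 : Mat) = toMat E15 := by
  simp only [e15, E15, Units.val_mul, jankoX_val, jankoY_val, toMat_mulP]
theorem e15_pow : e15 ^ 15 = 1 :=
  pow_eq_one_of e15 E15 e15_val 15 (pw15 E15) (toMat_pw15 E15) (by decide +kernel)
theorem e15_order : orderOf e15 = 15 :=
  orderOf_eq_mul_primes e15 5 3 (by norm_num) (by norm_num) e15_pow
    (pow_ne_one_of e15 E15 e15_val 5 (pw5 E15) (toMat_pw5 E15) (by decide +kernel))
    (pow_ne_one_of e15 E15 e15_val 3 (pw3 E15) (toMat_pw3 E15) (by decide +kernel))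

def e7 : GLm := jankoX
def E7 : ℕ := Xp
theorem e7_mem : e7 ∈ J1 := jX_mem
theorem e7_val : (e7 : Mat) = toMat E7 := jankoX_val
theorem e7_pow : e7 ^ 7 = 1 :=
  pow_eq_one_of e7 E7 e7_val 7 (pw7 E7) (toMat_pw7 E7) (by decide +kernel)
theorem e7_order : orderOf e7 = 7 := by
  have hp : Fact (Nat.Prime 7) := ⟨by norm_num⟩
  refine orderOf_eq_prime e7_pow ?_
  have h := pow_ne_one_of e7 E7 e7_val 1 (pw1 E7) (toMat_pw1 E7) (by decide +kernel)
  rwa [pow_one] at h

def e11 : GLm := jankoY * jankoY * jankoX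
def E11 : ℕ := mulP (mulP Yp Yp) Xp
theorem e11_mem : e11 ∈ J1 := Subgroup.mul_mem _ (Subgroup.mul_mem _ jY_mem jY_mem) jX_mem
theorem e11_val : (e11 : Mat) = toMat E11 := by
  simp only [e11, E11, Units.val_mul, jankoX_val, jankoY_val, toMat_mulP]
theorem e11_pow : e11 ^ 11 = 1 :=
  pow_eq_one_of e11 E11 e11_val 11 (pw11 E11) (toMat_pw11 E11) (by decide +kernel)
theorem e11_order : orderOf e11 = 11 := by
  have hp : Fact (Nat.Prime 11) := ⟨by norm_num⟩
  refine orderOf_eq_prime e11_pow ?_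
  have h := pow_ne_one_of e11 E11 e11_val 1 (pw1 E11) (toMat_pw1 E11) (by decide +kernel)
  rwa [pow_one] at h

def e19 : GLm := jankoY * jankoX * jankoX * jankoX
def E19 : ℕ := mulP (mulP (mulP Yp Xp) Xp) Xp
theorem e19_mem : e19 ∈ J1 := Subgroup.mul_mem _ (Subgroup.mul_mem _ (Subgroup.mul_mem _ jY_mem jX_mem) jX_mem) jX_mem
theorem e19_val : (e19 : Mat) = toMat E19 := by
  simp only [e19, E19, Units.val_mul, jankoX_val, jankoY_val, toMat_mulP]
theorem e19_pow : e19 ^ 19 = 1 :=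
  pow_eq_one_of e19 E19 e19_val 19 (pw19 E19) (toMat_pw19 E19) (by decide +kernel)
theorem e19_order : orderOf e19 = 19 := by
  have hp : Fact (Nat.Prime 19) := ⟨by norm_num⟩
  refine orderOf_eq_prime e19_pow ?_
  have h := pow_ne_one_of e19 E19 e19_val 1 (pw1 E19) (toMat_pw1 E19) (by decide +kernel)
  rwa [pow_one] at h

theorem exists_orderOf (n : ℕ) (hn : n ∈ [1, 2, 3, 5, 6, 7, 10, 11, 15, 19]) :
    ∃ g : ↥J1, orderOf g = n := by
  have key : ∀ (x : GLm) (hx : x ∈ J1) (m k : ℕ), orderOf x = m → k ≠ 0 →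
      ∃ g : ↥J1, orderOf g = m / Nat.gcd m k := by
    intro x hx m k hm hk
    refine ⟨⟨x, hx⟩ ^ k, ?_⟩
    rw [orderOf_pow' _ hk, Subgroup.orderOf_mk, hm]
  simp only [List.mem_cons, List.not_mem_nil, or_false] at hn
  rcases hn with rfl | rfl | rfl | rfl | rfl | rfl | rfl | rfl | rfl | rfl
  · exact ⟨1, orderOf_one⟩
  · exact key e6 e6_mem 6 3 e6_order (by norm_num)
  · exact key e6 e6_mem 6 2 e6_order (by norm_num)
  · exact key e10 e10_mem 10 2 e10_order (by norm_num)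
  · exact key e6 e6_mem 6 1 e6_order (by norm_num)
  · exact key e7 e7_mem 7 1 e7_order (by norm_num)
  · exact key e10 e10_mem 10 1 e10_order (by norm_num)
  · exact key e11 e11_mem 11 1 e11_order (by norm_num)
  · exact key e15 e15_mem 15 1 e15_order (by norm_num)
  · exact key e19 e19_mem 19 1 e19_order (by norm_num)

/-- the orders of the elements of `J1` are exactly 1, 2, 3, 5, 6, 7, 10, 11, 15, 19 -/
theorem J1_orderOf_mem (g : ↥J1) : orderOf g ∈ [1, 2, 3, 5, 6, 7, 10, 11, 15, 19] := by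
  rw [← Subgroup.orderOf_coe]
  exact J1_orderOf g g.2

end Cfsg.Agent.Lib.Helper60.J1
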