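import Cfsg.Agent.Lib.Helper60.J1.Data

set_option autoImplicit false

namespace Cfsg.Agent.Lib.Helper60.J1

theorem chkA_all_c0 : allBelow (fun j => chkA (Nat.add 0 j)) 330 = true := by decide +kernel
theorem chkA_all_c1 : allBelow (fun j => chkA (Nat.add 330 j)) 330 = true := by decide +kernel
theorem chkA_all : ∀ j < 660, chkA j = true := by
  intro j hj
  have hc : (0 ≤ j ∧ j < 0 + 330) ∨ (330 ≤ j ∧ j < 330 + 330) := by omega
  rcases hc with ⟨h1, h2⟩ | ⟨h1, h2⟩
  · exact allBelow_off (fun j => chkA j) 0 _ chkA_all_c0 j h1 h2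
  · exact allBelow_off (fun j => chkA j) 330 _ chkA_all_c1 j h1 h2

theorem chkB_all_c0 : allBelow (fun j => chkB (Nat.add 0 j)) 330 = true := by decide +kernel
theorem chkB_all_c1 : allBelow (fun j => chkB (Nat.add 330 j)) 330 = true := by decide +kernel
theorem chkB_all : ∀ j < 660, chkB j = true := by
  intro j hj
  have hc : (0 ≤ j ∧ j < 0 + 330) ∨ (330 ≤ j ∧ j < 330 + 330) := by omega
  rcases hc with ⟨h1, h2⟩ | ⟨h1, h2⟩
  · exact allBelow_off (fun j => chkB j) 0 _ chkB_all_c0 j h1 h2
  · exact allBelow_off (fun j => chkB j) 330 _ chkB_all_c1 j h1 h2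

theorem chkP_all : ∀ j < 659, chkP j = true :=
  allBelow_spec _ _ (by decide +kernel)
theorem getH_zero : getH 0 = oneP := by decide +kernel
theorem getC_zero : getC 0 = oneP := by decide +kernel
theorem Ap_sq : mulP Ap Ap = oneP := by decide +kernel
theorem Bp_inv : mulP Bp Bpi = oneP := by decide +kernel
theorem Bpi_inv : mulP Bpi Bp = oneP := by decide +kernel

end Cfsg.Agent.Lib.Helper60.J1
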