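import Cfsg.Agent.Lib.Helper60.J1.Data

set_option autoImplicit false

namespace Cfsg.Agent.Lib.Helper60.J1

theorem chkC_all_c0 : allBelow (fun j => chkC (Nat.add 0 j)) 266 = true := by decide +kernel
theorem chkC_all : ∀ j < 266, chkC j = true := by
  intro j hj
  have hc : (0 ≤ j ∧ j < 0 + 266) := by omega
  rcases hc with ⟨h1, h2⟩
  · exact allBelow_off (fun j => chkC j) 0 _ chkC_all_c0 j h1 h2

theorem chkX_all_c0 : allBelow (fun j => chkX (Nat.add 0 j)) 133 = true := by decide +kernel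
theorem chkX_all_c1 : allBelow (fun j => chkX (Nat.add 133 j)) 133 = true := by decide +kernel
theorem chkX_all : ∀ j < 266, chkX j = true := by
  intro j hj
  have hc : (0 ≤ j ∧ j < 0 + 133) ∨ (133 ≤ j ∧ j < 133 + 133) := by omega
  rcases hc with ⟨h1, h2⟩ | ⟨h1, h2⟩
  · exact allBelow_off (fun j => chkX j) 0 _ chkX_all_c0 j h1 h2
  · exact allBelow_off (fun j => chkX j) 133 _ chkX_all_c1 j h1 h2

theorem chkY_all_c0 : allBelow (fun j => chkY (Nat.add 0 j)) 133 = true := by decide +kernel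
theorem chkY_all_c1 : allBelow (fun j => chkY (Nat.add 133 j)) 133 = true := by decide +kernel
theorem chkY_all : ∀ j < 266, chkY j = true := by
  intro j hj
  have hc : (0 ≤ j ∧ j < 0 + 133) ∨ (133 ≤ j ∧ j < 133 + 133) := by omega
  rcases hc with ⟨h1, h2⟩ | ⟨h1, h2⟩
  · exact allBelow_off (fun j => chkY j) 0 _ chkY_all_c0 j h1 h2
  · exact allBelow_off (fun j => chkY j) 133 _ chkY_all_c1 j h1 h2


end Cfsg.Agent.Lib.Helper60.J1
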