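import Cfsg.Agent.Lib.Helper60.J1.Data

set_option autoImplicit false

namespace Cfsg.Agent.Lib.Helper60.J1

theorem chkO0_all_c0 : allBelow (fun j => chkO 0 (Nat.add 0 j)) 60 = true := by decide +kernel
theorem chkO0_all_c1 : allBelow (fun j => chkO 0 (Nat.add 60 j)) 60 = true := by decide +kernel
theorem chkO0_all_c2 : allBelow (fun j => chkO 0 (Nat.add 120 j)) 60 = true := by decide +kernel
theorem chkO0_all_c3 : allBelow (fun j => chkO 0 (Nat.add 180 j)) 60 = true := by decide +kernel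
theorem chkO0_all_c4 : allBelow (fun j => chkO 0 (Nat.add 240 j)) 60 = true := by decide +kernel
theorem chkO0_all_c5 : allBelow (fun j => chkO 0 (Nat.add 300 j)) 60 = true := by decide +kernel
theorem chkO0_all_c6 : allBelow (fun j => chkO 0 (Nat.add 360 j)) 60 = true := by decide +kernel
theorem chkO0_all_c7 : allBelow (fun j => chkO 0 (Nat.add 420 j)) 60 = true := by decide +kernel
theorem chkO0_all_c8 : allBelow (fun j => chkO 0 (Nat.add 480 j)) 60 = true := by decide +kernel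
theorem chkO0_all_c9 : allBelow (fun j => chkO 0 (Nat.add 540 j)) 60 = true := by decide +kernel
theorem chkO0_all_c10 : allBelow (fun j => chkO 0 (Nat.add 600 j)) 60 = true := by decide +kernel
theorem chkO0_all : ∀ j < 660, chkO 0 j = true := by
  intro j hj
  have hc : (0 ≤ j ∧ j < 0 + 60) ∨ (60 ≤ j ∧ j < 60 + 60) ∨ (120 ≤ j ∧ j < 120 + 60) ∨ (180 ≤ j ∧ j < 180 + 60) ∨ (240 ≤ j ∧ j < 240 + 60) ∨ (300 ≤ j ∧ j < 300 + 60) ∨ (360 ≤ j ∧ j < 360 + 60) ∨ (420 ≤ j ∧ j < 420 + 60) ∨ (480 ≤ j ∧ j < 480 + 60) ∨ (540 ≤ j ∧ j < 540 + 60) ∨ (600 ≤ j ∧ j < 600 + 60) := by omega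
  rcases hc with ⟨h1, h2⟩ | ⟨h1, h2⟩ | ⟨h1, h2⟩ | ⟨h1, h2⟩ | ⟨h1, h2⟩ | ⟨h1, h2⟩ | ⟨h1, h2⟩ | ⟨h1, h2⟩ | ⟨h1, h2⟩ | ⟨h1, h2⟩ | ⟨h1, h2⟩
  · exact allBelow_off (fun j => chkO 0 j) 0 _ chkO0_all_c0 j h1 h2
  · exact allBelow_off (fun j => chkO 0 j) 60 _ chkO0_all_c1 j h1 h2
  · exact allBelow_off (fun j => chkO 0 j) 120 _ chkO0_all_c2 j h1 h2
  · exact allBelow_off (fun j => chkO 0 j) 180 _ chkO0_all_c3 j h1 h2
  · exact allBelow_off (fun j => chkO 0 j) 240 _ chkO0_all_c4 j h1 h2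
  · exact allBelow_off (fun j => chkO 0 j) 300 _ chkO0_all_c5 j h1 h2
  · exact allBelow_off (fun j => chkO 0 j) 360 _ chkO0_all_c6 j h1 h2
  · exact allBelow_off (fun j => chkO 0 j) 420 _ chkO0_all_c7 j h1 h2
  · exact allBelow_off (fun j => chkO 0 j) 480 _ chkO0_all_c8 j h1 h2
  · exact allBelow_off (fun j => chkO 0 j) 540 _ chkO0_all_c9 j h1 h2
  · exact allBelow_off (fun j => chkO 0 j) 600 _ chkO0_all_c10 j h1 h2

end Cfsg.Agent.Lib.Helper60.J1
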