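import Mathlib

/-!
Packed arithmetic for 7 x 7 matrices over `ZMod 11`: a matrix is one natural number,
entry `(i, j)` being the base-16 digit number `7 * i + j`.
-/

set_option autoImplicit false

namespace Cfsg.Agent.Lib.Helper60.J1

abbrev Mat := Matrix (Fin 7) (Fin 7) (ZMod 11)

/-- base 16 digit number `n` of `x` -/
def dg (x n : ℕ) : ℕ := Nat.land (Nat.shiftRight x (Nat.mul 4 n)) 15

theorem dg_eq (x n : ℕ) : dg x n = x / 16 ^ n % 16 := by
  unfold dg
  change (x >>> (4 * n)) &&& 15 = _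
  rw [Nat.shiftRight_eq_div_pow, pow_mul]
  exact Nat.and_two_pow_sub_one_eq_mod _ 4

/-- the matrix coded by a natural number -/
def toMat (x : ℕ) : Mat := Matrix.of fun i j => ((dg x (7 * i.val + j.val) : ℕ) : ZMod 11)

/-- Horner evaluation of a digit list -/
def horner (B : ℕ) : List ℕ → ℕ
  | [] => 0
  | c :: l => c + B * horner B l

theorem horner_lt (B : ℕ) (l : List ℕ) (h : ∀ c ∈ l, c < B) : horner B l < B ^ l.length := by
  induction l with
  | nil => simp [horner]
  | cons c l ih =>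
    have hc : c < B := h c (by simp)
    have hl := ih (fun d hd => h d (by simp [hd]))
    simp only [horner, List.length_cons, pow_succ]
    nlinarith [Nat.zero_le (horner B l)]

theorem horner_digit (B : ℕ) (l : List ℕ) (h : ∀ c ∈ l, c < B) (n : ℕ) :
    horner B l / B ^ n % B = l.getD n 0 := by
  induction l generalizing n with
  | nil => simp [horner]
  | cons c l ih =>
    have hc : c < B := h c (by simp)
    have hB : 0 < B := by omega
    have hl := ih (fun d hd => h d (by simp [hd]))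
    cases n with
    | zero =>
      simp only [horner, pow_zero, Nat.div_one, List.getD_cons_zero]
      rw [Nat.add_mul_mod_self_left]
      exact Nat.mod_eq_of_lt hc
    | succ n =>
      simp only [horner, List.getD_cons_succ]
      rw [pow_succ, mul_comm (B ^ n) B, ← Nat.div_div_eq_div_mul, Nat.add_mul_div_left _ _ hB,
        Nat.div_eq_of_lt hc, zero_add]
      exact hl n

/-- entry `(i, j)` of the product -/
def ent (x y i j : ℕ) : ℕ :=
  Nat.mod (Nat.add (Nat.add (Nat.add (Nat.add (Nat.add (Nat.add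
    (Nat.mul (dg x (Nat.mul 7 i)) (dg y j))
    (Nat.mul (dg x (Nat.add (Nat.mul 7 i) 1)) (dg y (Nat.add 7 j))))
    (Nat.mul (dg x (Nat.add (Nat.mul 7 i) 2)) (dg y (Nat.add 14 j))))
    (Nat.mul (dg x (Nat.add (Nat.mul 7 i) 3)) (dg y (Nat.add 21 j))))
    (Nat.mul (dg x (Nat.add (Nat.mul 7 i) 4)) (dg y (Nat.add 28 j))))
    (Nat.mul (dg x (Nat.add (Nat.mul 7 i) 5)) (dg y (Nat.add 35 j))))
    (Nat.mul (dg x (Nat.add (Nat.mul 7 i) 6)) (dg y (Nat.add 42 j)))) 11

theorem ent_lt (x y i j : ℕ) : ent x y i j < 16 := by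
  have : ent x y i j < 11 := Nat.mod_lt _ (by norm_num)
  omega

/-- row `i` of the product -/
def row (x y i : ℕ) : ℕ :=
  Nat.add (ent x y i 0) (Nat.mul 16 (Nat.add (ent x y i 1) (Nat.mul 16 (Nat.add (ent x y i 2)
    (Nat.mul 16 (Nat.add (ent x y i 3) (Nat.mul 16 (Nat.add (ent x y i 4) (Nat.mul 16
    (Nat.add (ent x y i 5) (Nat.mul 16 (ent x y i 6))))))))))))

/-- the packed product -/
def mulP (x y : ℕ) : ℕ :=
  Nat.add (row x y 0) (Nat.mul 268435456 (Nat.add (row x y 1) (Nat.mul 268435456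
    (Nat.add (row x y 2) (Nat.mul 268435456 (Nat.add (row x y 3) (Nat.mul 268435456
    (Nat.add (row x y 4) (Nat.mul 268435456 (Nat.add (row x y 5)
    (Nat.mul 268435456 (row x y 6))))))))))))

theorem row_eq (x y i : ℕ) : row x y i = horner 16 [ent x y i 0, ent x y i 1, ent x y i 2,
    ent x y i 3, ent x y i 4, ent x y i 5, ent x y i 6] := by
  simp only [horner, mul_zero, add_zero]
  rfl

theorem mulP_eq (x y : ℕ) : mulP x y = horner (16 ^ 7) [row x y 0, row x y 1, row x y 2,
    row x y 3, row x y 4, row x y 5, row x y 6] := by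
  simp only [horner, mul_zero, add_zero]
  rfl

theorem row_lt (x y i : ℕ) : row x y i < 16 ^ 7 := by
  rw [row_eq]
  refine horner_lt 16 _ ?_
  intro c hc
  simp only [List.mem_cons, List.not_mem_nil, or_false] at hc
  rcases hc with rfl | rfl | rfl | rfl | rfl | rfl | rfl <;> exact ent_lt _ _ _ _

theorem row_digit (x y i j : ℕ) (hj : j < 7) : row x y i / 16 ^ j % 16 = ent x y i j := by
  rw [row_eq, horner_digit]
  · interval_cases j <;> rfl
  · intro c hc
    simp only [List.mem_cons, List.not_mem_nil, or_false] at hc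
    rcases hc with rfl | rfl | rfl | rfl | rfl | rfl | rfl <;> exact ent_lt _ _ _ _

theorem mulP_row (x y i : ℕ) (hi : i < 7) : mulP x y / (16 ^ 7) ^ i % 16 ^ 7 = row x y i := by
  rw [mulP_eq, horner_digit]
  · interval_cases i <;> rfl
  · intro c hc
    simp only [List.mem_cons, List.not_mem_nil, or_false] at hc
    rcases hc with rfl | rfl | rfl | rfl | rfl | rfl | rfl <;> exact row_lt _ _ _

theorem dg_mulP (x y i j : ℕ) (hi : i < 7) (hj : j < 7) :
    dg (mulP x y) (7 * i + j) = ent x y i j := by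
  rw [dg_eq, ← row_digit x y i j hj, ← mulP_row x y i hi]
  rw [pow_add, pow_mul, ← Nat.div_div_eq_div_mul]
  generalize mulP x y / (16 ^ 7) ^ i = m
  rw [← Nat.mod_mul_right_div_self, ← Nat.mod_mul_right_div_self (m % 16 ^ 7)]
  congr 1
  have hd : 16 ^ j * 16 ∣ 16 ^ 7 := by
    rw [← pow_succ]
    exact pow_dvd_pow 16 (by omega)
  exact (Nat.mod_mod_of_dvd m hd).symm

theorem toMat_mulP (x y : ℕ) : toMat (mulP x y) = toMat x * toMat y := by
  ext i j
  rw [Matrix.mul_apply, Fin.sum_univ_seven]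
  simp only [toMat, Matrix.of_apply]
  rw [dg_mulP x y i.val j.val i.isLt j.isLt]
  change ((((dg x (7 * i.val) * dg y j.val + dg x (7 * i.val + 1) * dg y (7 + j.val)
    + dg x (7 * i.val + 2) * dg y (14 + j.val) + dg x (7 * i.val + 3) * dg y (21 + j.val)
    + dg x (7 * i.val + 4) * dg y (28 + j.val) + dg x (7 * i.val + 5) * dg y (35 + j.val)
    + dg x (7 * i.val + 6) * dg y (42 + j.val)) % 11 : ℕ)) : ZMod 11) = _
  rw [ZMod.natCast_mod]
  push_cast
  simp

/-- the identity matrix, packed -/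
def oneP : ℕ := 0x1000000010000000100000001000000010000000100000001

theorem toMat_oneP : toMat oneP = 1 := by decide +kernel

theorem toMat_eq_one_entry (x : ℕ) (h : toMat x = 1) (i j : Fin 7) :
    ((dg x (7 * i.val + j.val) : ℕ) : ZMod 11) = if i = j then 1 else 0 := by
  have := congrFun (congrFun h i) j
  rw [Matrix.one_apply] at this
  exact this

/-! Powers -/

def pw6 (g : ℕ) : ℕ := mulP (mulP (mulP g g) (mulP g g)) (mulP g g)
def pw10 (g : ℕ) : ℕ :=
  mulP (mulP (mulP (mulP g g) (mulP g g)) (mulP (mulP g g) (mulP g g))) (mulP g g)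
def pw15 (g : ℕ) : ℕ :=
  mulP (mulP (mulP (mulP (mulP g g) g) (mulP (mulP g g) g))
    (mulP (mulP (mulP g g) g) (mulP (mulP g g) g))) (mulP (mulP g g) g)
def pw7 (g : ℕ) : ℕ := mulP (mulP (mulP (mulP g g) g) (mulP (mulP g g) g)) g
def pw11 (g : ℕ) : ℕ :=
  mulP (mulP (mulP (mulP (mulP g g) (mulP g g)) g) (mulP (mulP (mulP g g) (mulP g g)) g)) g
def pw19 (g : ℕ) : ℕ :=
  mulP (mulP (mulP (mulP (mulP (mulP g g) (mulP g g)) (mulP (mulP g g) (mulP g g))) g)
    (mulP (mulP (mulP (mulP g g) (mulP g g)) (mulP (mulP g g) (mulP g g))) g)) g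

theorem toMat_pw6 (g : ℕ) : toMat (pw6 g) = toMat g ^ 6 := by
  simp only [pw6, toMat_mulP, pow_succ, pow_zero, one_mul, mul_assoc]
theorem toMat_pw10 (g : ℕ) : toMat (pw10 g) = toMat g ^ 10 := by
  simp only [pw10, toMat_mulP, pow_succ, pow_zero, one_mul, mul_assoc]
theorem toMat_pw15 (g : ℕ) : toMat (pw15 g) = toMat g ^ 15 := by
  simp only [pw15, toMat_mulP, pow_succ, pow_zero, one_mul, mul_assoc]
theorem toMat_pw7 (g : ℕ) : toMat (pw7 g) = toMat g ^ 7 := by
  simp only [pw7, toMat_mulP, pow_succ, pow_zero, one_mul, mul_assoc]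
theorem toMat_pw11 (g : ℕ) : toMat (pw11 g) = toMat g ^ 11 := by
  simp only [pw11, toMat_mulP, pow_succ, pow_zero, one_mul, mul_assoc]
theorem toMat_pw19 (g : ℕ) : toMat (pw19 g) = toMat g ^ 19 := by
  simp only [pw19, toMat_mulP, pow_succ, pow_zero, one_mul, mul_assoc]

/-- `M` is killed by one of the exponents 6, 10, 15, 7, 11, 19 -/
def Good {M : Type*} [Monoid M] (g : M) : Prop :=
  g ^ 6 = 1 ∨ g ^ 10 = 1 ∨ g ^ 15 = 1 ∨ g ^ 7 = 1 ∨ g ^ 11 = 1 ∨ g ^ 19 = 1

/-- order check with certificate `k` -/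
def ordChk (g k : ℕ) : Bool :=
  match k with
  | 0 => Nat.beq (pw6 g) oneP
  | 1 => Nat.beq (pw10 g) oneP
  | 2 => Nat.beq (pw15 g) oneP
  | 3 => Nat.beq (pw7 g) oneP
  | 4 => Nat.beq (pw11 g) oneP
  | _ => Nat.beq (pw19 g) oneP

theorem good_of_ordChk (g k : ℕ) (h : ordChk g k = true) : Good (toMat g) := by
  unfold ordChk at h
  unfold Good
  split at h
  · have := Nat.eq_of_beq_eq_true h
    left; rw [← toMat_pw6, this, toMat_oneP]
  · have := Nat.eq_of_beq_eq_true h
    right; left; rw [← toMat_pw10, this, toMat_oneP]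
  · have := Nat.eq_of_beq_eq_true h
    right; right; left; rw [← toMat_pw15, this, toMat_oneP]
  · have := Nat.eq_of_beq_eq_true h
    right; right; right; left; rw [← toMat_pw7, this, toMat_oneP]
  · have := Nat.eq_of_beq_eq_true h
    right; right; right; right; left; rw [← toMat_pw11, this, toMat_oneP]
  · have := Nat.eq_of_beq_eq_true h
    right; right; right; right; right; rw [← toMat_pw19, this, toMat_oneP]

/-- check `f 0, ..., f (n-1)` -/
def allBelow (f : ℕ → Bool) : ℕ → Bool
  | 0 => true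
  | n + 1 => f n && allBelow f n

theorem allBelow_spec (f : ℕ → Bool) (n : ℕ) (h : allBelow f n = true) :
    ∀ j < n, f j = true := by
  induction n with
  | zero => intro j hj; omega
  | succ n ih =>
    simp only [allBelow, Bool.and_eq_true] at h
    intro j hj
    rcases Nat.lt_succ_iff_lt_or_eq.mp hj with h1 | h1
    · exact ih h.2 j h1
    · rw [h1]; exact h.1

/-- table lookup: entry `j` of width `w` bits (mask `m = 2 ^ w - 1`) -/
def tget (T w m j : ℕ) : ℕ := Nat.land (Nat.shiftRight T (Nat.mul w j)) m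

end Cfsg.Agent.Lib.Helper60.J1
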