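import Cfsg.Agent.Lib.Helper60.J1.Spec
import Cfsg.Agent.Lib.Helper60.Cert.Syl

/-!
The packed 7 × 7 matrices modulo 11 as a model for the generic certificate layer, and the
Janko group as a group generated by packed matrices.
-/

set_option autoImplicit false

namespace Cfsg.Agent.Lib.Helper60.J1

open Cfsg.Agent.Lib.Helper60.Cert

/-- a canonical key of a packed matrix -/
def keyP (x : ℕ) : ℕ := (List.range 49).foldl (fun acc n => acc * 16 + dg x n % 11) 0

theorem foldl_congr' (f g : ℕ → ℕ) (l : List ℕ) (h : ∀ n ∈ l, f n = g n) (acc : ℕ) :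
    l.foldl (fun acc n => acc * 16 + f n) acc = l.foldl (fun acc n => acc * 16 + g n) acc := by
  induction l generalizing acc with
  | nil => rfl
  | cons a l ih =>
    simp only [List.foldl_cons]
    rw [h a List.mem_cons_self]
    exact ih (fun n hn => h n (List.mem_cons_of_mem _ hn)) _

theorem keyP_eq (a b : ℕ) (h : toMat a = toMat b) : keyP a = keyP b := by
  apply foldl_congr'
  intro n hn
  rw [List.mem_range] at hn
  have h1 := congrFun (congrFun h ⟨n / 7, by omega⟩) ⟨n % 7, Nat.mod_lt _ (by norm_num)⟩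
  simp only [toMat, Matrix.of_apply] at h1
  rw [Nat.div_add_mod] at h1
  exact (ZMod.natCast_eq_natCast_iff' _ _ _).mp h1

/-- the model of packed matrices -/
def model : Model Mat where
  toM := toMat
  mulP := mulP
  oneP := oneP
  key := keyP
  toM_mul := toMat_mulP
  toM_one := toMat_oneP
  key_eq := keyP_eq

/-- the matrix of an invertible matrix -/
def ψJ : GLm →* Mat := Units.coeHom Mat

theorem ψJ_inj : Function.Injective ψJ := fun _ _ h => Units.ext h

/-- the two generators -/
def jgen (l : ℕ) : ℕ :=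
  match l with
  | 0 => Xp
  | _ => Yp

theorem J1_eq : Cfsg.Spor.J1 = genGrp model ψJ jgen 2 := by
  unfold Cfsg.Spor.J1 genGrp
  congr 1
  ext g
  constructor
  · rintro (rfl | rfl)
    · exact ⟨0, by norm_num, jankoX_val⟩
    · exact ⟨1, by norm_num, jankoY_val⟩
  · rintro ⟨l, hl, hg⟩
    interval_cases l
    · left; exact ψJ_inj (hg.trans jankoX_val.symm)
    · right; exact ψJ_inj (hg.trans jankoY_val.symm)

theorem jgen_real : ∀ l < 2, Real model ψJ Cfsg.Spor.J1 (jgen l) := by
  intro l hl
  interval_cases l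
  · exact ⟨_, jX_mem, jankoX_val⟩
  · exact ⟨_, jY_mem, jankoY_val⟩

theorem card_J1_le : Nat.card Cfsg.Spor.J1 ≤ 175560 := by
  choose i hi h hh hv using fun g : Cfsg.Spor.J1 => J1_cosets g.1 g.2
  choose j hj hjv using fun g : Cfsg.Spor.J1 => Hs_sub (h g) (hh g)
  have hinj : Function.Injective
      (fun g : Cfsg.Spor.J1 => ((⟨i g, hi g⟩ : Fin 266), (⟨j g, hj g⟩ : Fin 660))) := by
    intro a b hab
    have h1 : i a = i b := congrArg Fin.val (congrArg Prod.fst hab)
    have h2 : j a = j b := congrArg Fin.val (congrArg Prod.snd hab)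
    apply Subtype.ext
    apply Units.ext
    rw [hv a, hv b, hjv a, hjv b, h1, h2]
  have := Nat.card_le_card_of_injective _ hinj
  rwa [Nat.card_prod, Nat.card_fin, Nat.card_fin] at this

end Cfsg.Agent.Lib.Helper60.J1
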