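import Cfsg.Agent.Lib.Helper60.J1.SylData

/-!
The group generated by the two Janko matrices has order 175560 and is simple.
-/

set_option autoImplicit false

namespace Cfsg.Agent.Lib.Helper60.J1

open Cfsg.Agent.Lib.Helper60.Cert

instance : Finite GLm := Finite.of_injective ψJ ψJ_inj

theorem prime_dvd_cases {p : ℕ} (hp : p.Prime) (h : p ∣ 175560) :
    p = 2 ∨ p = 3 ∨ p = 5 ∨ p = 7 ∨ p = 11 ∨ p = 19 := by
  have e : (175560 : ℕ) = 2 ^ 3 * (3 * (5 * (7 * (11 * 19)))) := by norm_num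
  rw [e] at h
  rcases (Nat.Prime.dvd_mul hp).mp h with h | h
  · left; exact (Nat.prime_dvd_prime_iff_eq hp (by norm_num)).mp (hp.dvd_of_dvd_pow h)
  rcases (Nat.Prime.dvd_mul hp).mp h with h | h
  · right; left; exact (Nat.prime_dvd_prime_iff_eq hp (by norm_num)).mp h
  rcases (Nat.Prime.dvd_mul hp).mp h with h | h
  · right; right; left; exact (Nat.prime_dvd_prime_iff_eq hp (by norm_num)).mp h
  rcases (Nat.Prime.dvd_mul hp).mp h with h | h
  · right; right; right; left; exact (Nat.prime_dvd_prime_iff_eq hp (by norm_num)).mp h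
  rcases (Nat.Prime.dvd_mul hp).mp h with h | h
  · right; right; right; right; left; exact (Nat.prime_dvd_prime_iff_eq hp (by norm_num)).mp h
  · right; right; right; right; right; exact (Nat.prime_dvd_prime_iff_eq hp (by norm_num)).mp h

theorem card_eq_of_dvd (n : ℕ) (hpos : 0 < n) (d2 : 8 ∣ n) (d3 : 3 ∣ n) (d5 : 5 ∣ n)
    (d7 : 7 ∣ n) (d11 : 11 ∣ n) (d19 : 19 ∣ n) (hle : n ≤ 175560) : n = 175560 := by
  have e1 : 24 ∣ n := Nat.Coprime.mul_dvd_of_dvd_of_dvd (m := 8) (n := 3) (by decide) d2 d3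
  have e2 : 120 ∣ n := Nat.Coprime.mul_dvd_of_dvd_of_dvd (m := 24) (n := 5) (by decide) e1 d5
  have e3 : 840 ∣ n := Nat.Coprime.mul_dvd_of_dvd_of_dvd (m := 120) (n := 7) (by decide) e2 d7
  have e4 : 9240 ∣ n :=
    Nat.Coprime.mul_dvd_of_dvd_of_dvd (m := 840) (n := 11) (by decide +kernel) e3 d11
  have e5 : 175560 ∣ n :=
    Nat.Coprime.mul_dvd_of_dvd_of_dvd (m := 9240) (n := 19) (by decide +kernel) e4 d19
  clear d2 d3 d5 d7 d11 d19 e1 e2 e3 e4
  obtain ⟨k, rfl⟩ := e5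
  have : k = 1 := by nlinarith
  subst this; rfl

theorem hgen2 : ∀ l < s2D.L.r, Real model ψJ Cfsg.Spor.J1 (s2D.L.gen l) :=
  fun l hl => real_of_chkWord jgen_real (allBelow_spec _ _ s2gw_ok l hl)
theorem hgen3 : ∀ l < s3D.L.r, Real model ψJ Cfsg.Spor.J1 (s3D.L.gen l) :=
  fun l hl => real_of_chkWord jgen_real (allBelow_spec _ _ s3gw_ok l hl)
theorem hgen5 : ∀ l < s5D.L.r, Real model ψJ Cfsg.Spor.J1 (s5D.L.gen l) :=
  fun l hl => real_of_chkWord jgen_real (allBelow_spec _ _ s5gw_ok l hl)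
theorem hgen11 : ∀ l < s11D.L.r, Real model ψJ Cfsg.Spor.J1 (s11D.L.gen l) :=
  fun l hl => real_of_chkWord jgen_real (allBelow_spec _ _ s11gw_ok l hl)
theorem hgen19 : ∀ l < s19D.L.r, Real model ψJ Cfsg.Spor.J1 (s19D.L.gen l) :=
  fun l hl => real_of_chkWord jgen_real (allBelow_spec _ _ s19gw_ok l hl)

theorem hW2 : ∀ c < s2D.nW, Real model ψJ Cfsg.Spor.J1 (s2D.W c) :=
  fun c hc => real_of_chkWord jgen_real (allBelow_spec _ _ s2ww_ok c hc)
theorem hW3 : ∀ c < s3D.nW, Real model ψJ Cfsg.Spor.J1 (s3D.W c) :=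
  fun c hc => real_of_chkWord jgen_real (allBelow_spec _ _ s3ww_ok c hc)
theorem hW5 : ∀ c < s5D.nW, Real model ψJ Cfsg.Spor.J1 (s5D.W c) :=
  fun c hc => real_of_chkWord jgen_real (allBelow_spec _ _ s5ww_ok c hc)
theorem hW11 : ∀ c < s11D.nW, Real model ψJ Cfsg.Spor.J1 (s11D.W c) :=
  fun c hc => real_of_chkWord jgen_real (allBelow_spec _ _ s11ww_ok c hc)
theorem hW19 : ∀ c < s19D.nW, Real model ψJ Cfsg.Spor.J1 (s19D.W c) :=
  fun c hc => real_of_chkWord jgen_real (allBelow_spec _ _ s19ww_ok c hc)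

theorem qgen_real : ∀ l < 2, Real model ψJ Cfsg.Spor.J1 (qgen l) :=
  fun l hl => real_of_chkWord jgen_real (allBelow_spec _ _ qgw_ok l hl)

theorem qgen_ord : ∀ l < 2, model.powP (qgen l) 7 = model.oneP ∧
    model.neq (qgen l) model.oneP = true := by
  intro l hl
  have h := allBelow_spec _ _ qord_ok l hl
  simp only [Bool.and_eq_true] at h
  exact ⟨Nat.eq_of_beq_eq_true h.1, h.2⟩

theorem card_J1 : Nat.card Cfsg.Spor.J1 = 175560 := by
  have d2 := card_dvd_of_lok ψJ_inj Cfsg.Spor.J1 s2ok.l hgen2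
  have d3 := card_dvd_of_lok ψJ_inj Cfsg.Spor.J1 s3ok.l hgen3
  have d5 := card_dvd_of_lok ψJ_inj Cfsg.Spor.J1 s5ok.l hgen5
  have d11 := card_dvd_of_lok ψJ_inj Cfsg.Spor.J1 s11ok.l hgen11
  have d19 := card_dvd_of_lok ψJ_inj Cfsg.Spor.J1 s19ok.l hgen19
  have d7 : 7 ∣ Nat.card Cfsg.Spor.J1 := by
    have : Fact (Nat.Prime 7) := ⟨by norm_num⟩
    have h1 : orderOf Cfsg.Spor.jankoX = 7 :=
      orderOf_eq_prime_of (μ := model) (ψ := ψJ) ψJ_inj jankoX_val (qgen_ord 0 (by norm_num)).1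
        (qgen_ord 0 (by norm_num)).2
    have := orderOf_dvd_natCard (⟨Cfsg.Spor.jankoX, jX_mem⟩ : Cfsg.Spor.J1)
    rwa [← Subgroup.orderOf_coe, h1] at this
  exact card_eq_of_dvd _ Nat.card_pos d2 d3 d5 d7 d11 d19 card_J1_le

theorem J1_simple : IsSimpleGroup Cfsg.Spor.J1 := by
  have hc := card_J1
  have : Fact (Nat.Prime 7) := ⟨by norm_num⟩
  have hex : ∀ l < 2, ∃ g, ψJ g = model.toM (qgen l) := by
    intro l hl
    obtain ⟨g, _, hg⟩ := qgen_real l hl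
    exact ⟨g, hg⟩
  refine simple_of_certs ψJ_inj Cfsg.Spor.J1 7 (by rw [hc]; norm_num) (by rw [hc]; norm_num)
    qgen 2 qgen_real qgen_ord ?_ ?_
  · unfold Cfsg.Spor.J1
    rw [Subgroup.closure_le]
    rintro g (rfl | rfl)
    · exact Subgroup.subset_closure ⟨0, by norm_num, jankoX_val⟩
    · obtain ⟨g, hg, hv⟩ := real_of_chkWord (gen_real hex) wYq_ok
      have : Cfsg.Spor.jankoY = g := ψJ_inj (jankoY_val.trans hv.symm)
      rw [this]; exact hg
  · intro p hp hpd hp7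
    rw [hc] at hpd
    rcases prime_dvd_cases hp hpd with rfl | rfl | rfl | rfl | rfl | rfl
    · have : Fact (Nat.Prime 2) := ⟨hp⟩
      exact syl_cert ψJ_inj Cfsg.Spor.J1 s2ok hgen2 hW2 (by norm_num [s2D]) 2 3 rfl
        (by rw [hc]; decide)
    · have : Fact (Nat.Prime 3) := ⟨hp⟩
      exact syl_cert ψJ_inj Cfsg.Spor.J1 s3ok hgen3 hW3 (by norm_num [s3D]) 3 1 rfl
        (by rw [hc]; decide)
    · have : Fact (Nat.Prime 5) := ⟨hp⟩
      exact syl_cert ψJ_inj Cfsg.Spor.J1 s5ok hgen5 hW5 (by norm_num [s5D]) 5 1 rfl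
        (by rw [hc]; decide)
    · exact absurd rfl hp7
    · have : Fact (Nat.Prime 11) := ⟨hp⟩
      exact syl_cert ψJ_inj Cfsg.Spor.J1 s11ok hgen11 hW11 (by norm_num [s11D]) 11 1 rfl
        (by rw [hc]; decide)
    · have : Fact (Nat.Prime 19) := ⟨hp⟩
      exact syl_cert ψJ_inj Cfsg.Spor.J1 s19ok hgen19 hW19 (by norm_num [s19D]) 19 1 rfl
        (by rw [hc]; decide)

end Cfsg.Agent.Lib.Helper60.J1
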