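import Cfsg.Agent.Lib.Helper60.J1.Chk1
import Cfsg.Agent.Lib.Helper60.J1.Chk2
import Cfsg.Agent.Lib.Helper60.J1.ChkO0
import Cfsg.Agent.Lib.Helper60.J1.ChkO1
import Cfsg.Agent.Lib.Helper60.J1.ChkO2
import Cfsg.Agent.Lib.Helper60.J1.ChkO3
import Cfsg.Agent.Lib.Helper60.J1.ChkO4
import Cfsg.Prelude.Def_Spor_J1

/-!
Element orders of the matrix group `Cfsg.Spor.J1`: every element is killed by one of the
exponents 6, 10, 15, 7, 11, 19, and each of the orders 1, 2, 3, 5, 6, 7, 10, 11, 15, 19 occurs.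
The first part uses the decomposition of the group into five double cosets of a subgroup
`Hs` with 660 elements.
-/

set_option autoImplicit false

namespace Cfsg.Agent.Lib.Helper60.J1

open scoped MatrixGroups

abbrev GLm := GL (Fin 7) (ZMod 11)

theorem closure_left_ind {G : Type*} [Group G] [Finite G] (s : Set G) (P : G → Prop)
    (h1 : P 1) (hmul : ∀ x ∈ s, ∀ y, P y → P (x * y)) : ∀ g ∈ Subgroup.closure s, P g := by
  intro g hg
  have hpow : ∀ x ∈ s, ∀ (k : ℕ) y, P y → P (x ^ k * y) := by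
    intro x hx k
    induction k with
    | zero => intro y hy; simpa using hy
    | succ k ih => intro y hy; rw [pow_succ', mul_assoc]; exact hmul x hx _ (ih y hy)
  refine Subgroup.closure_induction_left (p := fun x _ => P x) h1
    (fun x hx y _ hy => hmul x hx y hy) ?_ hg
  intro x hx y _ hy
  have hx1 : x⁻¹ = x ^ (orderOf x - 1) := by
    apply inv_eq_of_mul_eq_one_right
    rw [← pow_succ', Nat.sub_add_cancel (orderOf_pos x), pow_orderOf_eq_one]
  rw [hx1]
  exact hpow x hx _ y hy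

theorem toMat_mul_eq {x y z : ℕ} (h : mulP x y = z) : toMat x * toMat y = toMat z := by
  rw [← toMat_mulP, h]

/-- the two generators of the subgroup of order 660 -/
def aG : GLm :=
  ⟨toMat Ap, toMat Ap, by rw [toMat_mul_eq Ap_sq, toMat_oneP],
    by rw [toMat_mul_eq Ap_sq, toMat_oneP]⟩

def bG : GLm :=
  ⟨toMat Bp, toMat Bpi, by rw [toMat_mul_eq Bp_inv, toMat_oneP],
    by rw [toMat_mul_eq Bpi_inv, toMat_oneP]⟩

def Hs : Subgroup GLm := Subgroup.closure {aG, bG}

theorem aG_mem : aG ∈ Hs := Subgroup.subset_closure (by simp)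
theorem bG_mem : bG ∈ Hs := Subgroup.subset_closure (by simp)

theorem Hs_sub : ∀ h ∈ Hs, ∃ j < 660, (h : Mat) = toMat (getH j) := by
  apply closure_left_ind
  · exact ⟨0, by norm_num, by rw [getH_zero, toMat_oneP]; rfl⟩
  · rintro x hx y ⟨j, hj, hy⟩
    rcases hx with rfl | rfl
    · have h := chkA_all j hj
      simp only [chkA, Bool.and_eq_true, Nat.blt_eq] at h
      have h1 := Nat.eq_of_beq_eq_true h.1
      refine ⟨tabA j, h.2, ?_⟩
      rw [Units.val_mul, hy]
      exact toMat_mul_eq h1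
    · have h := chkB_all j hj
      simp only [chkB, Bool.and_eq_true, Nat.blt_eq] at h
      have h1 := Nat.eq_of_beq_eq_true h.1
      refine ⟨tabB j, h.2, ?_⟩
      rw [Units.val_mul, hy]
      exact toMat_mul_eq h1

theorem Hs_sup : ∀ j < 660, ∃ h ∈ Hs, (h : Mat) = toMat (getH j) := by
  intro j
  induction j using Nat.strong_induction_on with
  | _ j ih =>
    intro hj
    rcases Nat.eq_zero_or_pos j with rfl | hpos
    · exact ⟨1, Hs.one_mem, by rw [getH_zero, toMat_oneP]; rfl⟩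
    · obtain ⟨j', rfl⟩ : ∃ j', j = j' + 1 := ⟨j - 1, by omega⟩
      have h := chkP_all j' (by omega)
      simp only [chkP, Bool.and_eq_true, Nat.blt_eq, Nat.succ_eq_add_one] at h
      obtain ⟨hp, h2⟩ := h
      have hp660 : parP (j' + 1) < 660 := lt_trans hp hj
      obtain ⟨h', hh, hval⟩ := ih _ hp hp660
      split at h2
      · have e := Nat.eq_of_beq_eq_true h2
        have h3 := chkA_all (parP (j' + 1)) hp660
        simp only [chkA, Bool.and_eq_true, Nat.blt_eq] at h3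
        have h4 := Nat.eq_of_beq_eq_true h3.1
        have e' : toMat (getH (j' + 1)) = toMat (getH (tabA (parP (j' + 1)))) := by rw [e]
        refine ⟨aG * h', Hs.mul_mem aG_mem hh, ?_⟩
        rw [Units.val_mul, hval, e']
        exact toMat_mul_eq h4
      · have e := Nat.eq_of_beq_eq_true h2
        have h3 := chkB_all (parP (j' + 1)) hp660
        simp only [chkB, Bool.and_eq_true, Nat.blt_eq] at h3
        have h4 := Nat.eq_of_beq_eq_true h3.1
        have e' : toMat (getH (j' + 1)) = toMat (getH (tabB (parP (j' + 1)))) := by rw [e]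
        refine ⟨bG * h', Hs.mul_mem bG_mem hh, ?_⟩
        rw [Units.val_mul, hval, e']
        exact toMat_mul_eq h4

theorem coset_rep : ∀ i < 266, ∃ u ∈ Hs, ∃ r < 5, toMat (getC i) = (u : Mat) * toMat (getT r) := by
  intro i hi
  have h := chkC_all i hi
  simp only [chkC, Bool.and_eq_true, Nat.blt_eq] at h
  obtain ⟨⟨h1, h2⟩, h3⟩ := h
  have h1 := Nat.eq_of_beq_eq_true h1
  obtain ⟨u, hu, huv⟩ := Hs_sup _ h2
  exact ⟨u, hu, tabR i, h3, by rw [huv, toMat_mul_eq h1]⟩

theorem jankoX_val : (Cfsg.Spor.jankoX : Mat) = toMat Xp := by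
  change Cfsg.jankoMatrixX = toMat Xp
  decide +kernel

theorem jankoY_val : (Cfsg.Spor.jankoY : Mat) = toMat Yp := by
  change Cfsg.jankoMatrixY = toMat Yp
  decide +kernel

theorem J1_cosets : ∀ g ∈ Cfsg.Spor.J1, ∃ i < 266, ∃ h ∈ Hs, (g : Mat) = toMat (getC i) * (h : Mat) := by
  apply closure_left_ind
  · exact ⟨0, by norm_num, 1, Hs.one_mem, by rw [getC_zero, toMat_oneP]; simp⟩
  · rintro x hx y ⟨i, hi, h, hh, hy⟩
    rcases hx with rfl | rfl
    · have hc := chkX_all i hi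
      simp only [chkX, Bool.and_eq_true, Nat.blt_eq] at hc
      obtain ⟨⟨h1, h2⟩, h3⟩ := hc
      have h1 := Nat.eq_of_beq_eq_true h1
      obtain ⟨w, hw, hwv⟩ := Hs_sup _ h3
      refine ⟨sgX i, h2, w * h, Hs.mul_mem hw hh, ?_⟩
      rw [Units.val_mul, hy, jankoX_val, ← mul_assoc, ← toMat_mulP, h1, toMat_mulP, Units.val_mul,
        hwv, mul_assoc]
    · have hc := chkY_all i hi
      simp only [chkY, Bool.and_eq_true, Nat.blt_eq] at hc
      obtain ⟨⟨h1, h2⟩, h3⟩ := hc
      have h1 := Nat.eq_of_beq_eq_true h1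
      obtain ⟨w, hw, hwv⟩ := Hs_sup _ h3
      refine ⟨sgY i, h2, w * h, Hs.mul_mem hw hh, ?_⟩
      rw [Units.val_mul, hy, jankoY_val, ← mul_assoc, ← toMat_mulP, h1, toMat_mulP, Units.val_mul,
        hwv, mul_assoc]

theorem good_rep : ∀ r < 5, ∀ j < 660, Good (toMat (getT r) * toMat (getH j)) := by
  intro r hr j hj
  rw [← toMat_mulP]
  interval_cases r
  · exact good_of_ordChk _ _ (chkO0_all j hj)
  · exact good_of_ordChk _ _ (chkO1_all j hj)
  · exact good_of_ordChk _ _ (chkO2_all j hj)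
  · exact good_of_ordChk _ _ (chkO3_all j hj)
  · exact good_of_ordChk _ _ (chkO4_all j hj)

theorem Good.units {M : Type*} [Monoid M] {v : Mˣ} (h : Good (v : M)) : Good v := by
  have key : ∀ k : ℕ, (v : M) ^ k = 1 → v ^ k = 1 := by
    intro k hk
    apply Units.ext
    rw [Units.val_pow_eq_pow_val, hk, Units.val_one]
  unfold Good at h ⊢
  rcases h with h | h | h | h | h | h
  · exact Or.inl (key _ h)
  · exact Or.inr (Or.inl (key _ h))
  · exact Or.inr (Or.inr (Or.inl (key _ h)))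
  · exact Or.inr (Or.inr (Or.inr (Or.inl (key _ h))))
  · exact Or.inr (Or.inr (Or.inr (Or.inr (Or.inl (key _ h)))))
  · exact Or.inr (Or.inr (Or.inr (Or.inr (Or.inr (key _ h)))))

theorem Good.conj {G : Type*} [Group G] {v : G} (h : Good v) (u : G) : Good (u * v * u⁻¹) := by
  have key : ∀ k : ℕ, v ^ k = 1 → (u * v * u⁻¹) ^ k = 1 := by
    intro k hk
    rw [conj_pow, hk, mul_one, mul_inv_cancel]
  unfold Good at h ⊢
  rcases h with h | h | h | h | h | h
  · exact Or.inl (key _ h)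
  · exact Or.inr (Or.inl (key _ h))
  · exact Or.inr (Or.inr (Or.inl (key _ h)))
  · exact Or.inr (Or.inr (Or.inr (Or.inl (key _ h))))
  · exact Or.inr (Or.inr (Or.inr (Or.inr (Or.inl (key _ h)))))
  · exact Or.inr (Or.inr (Or.inr (Or.inr (Or.inr (key _ h)))))

/-- every element of `J1` is killed by one of the exponents 6, 10, 15, 7, 11, 19 -/
theorem J1_good : ∀ g ∈ Cfsg.Spor.J1, Good g := by
  intro g hg
  obtain ⟨i, hi, h, hh, hgv⟩ := J1_cosets g hg
  obtain ⟨u, hu, r, hr, hc⟩ := coset_rep i hi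
  obtain ⟨j, hj, hjv⟩ := Hs_sub (h * u) (Hs.mul_mem hh hu)
  have hv : ((u⁻¹ * g * u : GLm) : Mat) = toMat (getT r) * toMat (getH j) := by
    rw [Units.val_mul, Units.val_mul, hgv, hc, ← hjv, Units.val_mul]
    simp only [← mul_assoc]
    rw [Units.inv_mul, one_mul]
  have hgood : Good (u⁻¹ * g * u : GLm) := Good.units (by rw [hv]; exact good_rep r hr j hj)
  have := hgood.conj u
  have e : u * (u⁻¹ * g * u) * u⁻¹ = g := by group
  rwa [e] at this

theorem dvd_mem_list (n : ℕ) (h : n ∣ 6 ∨ n ∣ 10 ∨ n ∣ 15 ∨ n ∣ 7 ∨ n ∣ 11 ∨ n ∣ 19) :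
    n ∈ [1, 2, 3, 5, 6, 7, 10, 11, 15, 19] := by
  have hle : n ≤ 19 := by
    rcases h with h | h | h | h | h | h <;> have := Nat.le_of_dvd (by norm_num) h <;> omega
  interval_cases n <;> revert h <;> decide

/-- the order of every element of `J1` is one of 1, 2, 3, 5, 6, 7, 10, 11, 15, 19 -/
theorem J1_orderOf (g : GLm) (hg : g ∈ Cfsg.Spor.J1) :
    orderOf g ∈ [1, 2, 3, 5, 6, 7, 10, 11, 15, 19] := by
  apply dvd_mem_list
  have h := J1_good g hg
  unfold Good at h
  rcases h with h | h | h | h | h | h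
  · exact Or.inl (orderOf_dvd_of_pow_eq_one h)
  · exact Or.inr (Or.inl (orderOf_dvd_of_pow_eq_one h))
  · exact Or.inr (Or.inr (Or.inl (orderOf_dvd_of_pow_eq_one h)))
  · exact Or.inr (Or.inr (Or.inr (Or.inl (orderOf_dvd_of_pow_eq_one h))))
  · exact Or.inr (Or.inr (Or.inr (Or.inr (Or.inl (orderOf_dvd_of_pow_eq_one h)))))
  · exact Or.inr (Or.inr (Or.inr (Or.inr (Or.inr (orderOf_dvd_of_pow_eq_one h)))))

/-! Elements of the maximal orders. -/

def pw1 (g : ℕ) : ℕ := g
def pw2 (g : ℕ) : ℕ := mulP g g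
def pw3 (g : ℕ) : ℕ := mulP (mulP g g) g
def pw5 (g : ℕ) : ℕ := mulP (mulP (mulP g g) (mulP g g)) g

theorem toMat_pw1 (g : ℕ) : toMat (pw1 g) = toMat g ^ 1 := by rw [pow_one]; rfl
theorem toMat_pw2 (g : ℕ) : toMat (pw2 g) = toMat g ^ 2 := by
  simp only [pw2, toMat_mulP, pow_succ, pow_zero, one_mul]
theorem toMat_pw3 (g : ℕ) : toMat (pw3 g) = toMat g ^ 3 := by
  simp only [pw3, toMat_mulP, pow_succ, pow_zero, one_mul, mul_assoc]
theorem toMat_pw5 (g : ℕ) : toMat (pw5 g) = toMat g ^ 5 := by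
  simp only [pw5, toMat_mulP, pow_succ, pow_zero, one_mul, mul_assoc]

theorem pow_eq_one_of (x : GLm) (G : ℕ) (hx : (x : Mat) = toMat G) (k P : ℕ)
    (hP : toMat P = toMat G ^ k) (h1 : Nat.beq P oneP = true) : x ^ k = 1 := by
  apply Units.ext
  rw [Units.val_pow_eq_pow_val, hx, ← hP, Nat.eq_of_beq_eq_true h1, toMat_oneP, Units.val_one]

theorem pow_ne_one_of (x : GLm) (G : ℕ) (hx : (x : Mat) = toMat G) (k P : ℕ)
    (hP : toMat P = toMat G ^ k) (hne : ((dg P 0 : ℕ) : ZMod 11) ≠ 1) : x ^ k ≠ 1 := by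
  intro h
  have h2 := congrArg (fun z : GLm => (z : Mat)) h
  simp only [Units.val_pow_eq_pow_val, Units.val_one] at h2
  rw [hx, ← hP] at h2
  have h3 := toMat_eq_one_entry P h2 0 0
  simp at h3
  exact hne h3

theorem jX_mem : Cfsg.Spor.jankoX ∈ Cfsg.Spor.J1 := Subgroup.subset_closure (by simp)
theorem jY_mem : Cfsg.Spor.jankoY ∈ Cfsg.Spor.J1 := Subgroup.subset_closure (by simp)

end Cfsg.Agent.Lib.Helper60.J1
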