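import Cfsg.Agent.Lib.Helper60.J1.Model

/-! Sylow data for the group generated by the two Janko matrices (generated). -/

set_option autoImplicit false

namespace Cfsg.Agent.Lib.Helper60.J1

open Cfsg.Agent.Lib.Helper60.Cert

def s2gen (l : ℕ) : ℕ :=
  match l with
  | 0 => 0x5101894158190408498831195084898048390888434434335
  | 1 => 0x5443433451018941581903084988411950838980483908884
  | _ => 0x5084119048389888439084335443189451019041589883084
def s2T_c0 : ℕ := 0x43908883544343945101804158198308498841195083898044838980843908833544348945101904158188308490841195581904184988301950841980483808884394343354101894549883089508411804838988843903433544018945181904155084119048389888439084335443189451019041589883084544343345101894158190308498841195083898048390888451018941581904084988311950848980483908884344343351000000010000000100000001000000010000000100000001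
def s2T (j : ℕ) : ℕ := Nat.land (Nat.shiftRight s2T_c0 (Nat.mul 196 j)) 100433627766186892221372630771322662657637687111424552206335
def s2nx0_c0 : ℕ := 0x67325401
def s2nx0 (j : ℕ) : ℕ := Nat.land (Nat.shiftRight s2nx0_c0 (Nat.mul 4 j)) 15
def s2nx1_c0 : ℕ := 0x53716042
def s2nx1 (j : ℕ) : ℕ := Nat.land (Nat.shiftRight s2nx1_c0 (Nat.mul 4 j)) 15
def s2nx2_c0 : ℕ := 0x42170653
def s2nx2 (j : ℕ) : ℕ := Nat.land (Nat.shiftRight s2nx2_c0 (Nat.mul 4 j)) 15
def s2nx (l j : ℕ) : ℕ :=
  match l with
  | 0 => s2nx0 j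
  | 1 => s2nx1 j
  | _ => s2nx2 j
def s2par_c0 : ℕ := 0x42110000
def s2par (j : ℕ) : ℕ := Nat.land (Nat.shiftRight s2par_c0 (Nat.mul 4 j)) 15
def s2lt_c0 : ℕ := 0xa990
def s2lt (j : ℕ) : ℕ := Nat.land (Nat.shiftRight s2lt_c0 (Nat.mul 2 j)) 3

def s2L : LData where
  N := 8
  r := 3
  gen := s2gen
  T := s2T
  nx := s2nx
  par := s2par
  lt := s2lt

theorem s2ok_nx_0 : allBelow (fun j => chkNxAll model s2L (Nat.add 0 j)) 8 = true := by decide +kernel
theorem s2ok_nx : ∀ j < 8, chkNxAll model s2L j = true := by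
  intro j hj
  exact allBelow_off (chkNxAll model s2L) 0 8 s2ok_nx_0 j (Nat.zero_le j) hj
theorem s2ok_par_0 : allBelow (fun j => chkPar s2L (Nat.add 0 j)) 7 = true := by decide +kernel
theorem s2ok_par : ∀ j < 7, chkPar s2L j = true := by
  intro j hj
  exact allBelow_off (chkPar s2L) 0 7 s2ok_par_0 j (Nat.zero_le j) hj
theorem s2ok_dist_0 : allBelow (fun j => chkDist model s2L (Nat.add 0 j)) 4 = true := by decide +kernel
theorem s2ok_dist_1 : allBelow (fun j => chkDist model s2L (Nat.add 4 j)) 4 = true := by decide +kernel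
theorem s2ok_dist : ∀ j < 8, chkDist model s2L j = true := by
  intro j hj
  rcases Nat.lt_or_ge j 4 with h0 | h0
  · exact allBelow_off (chkDist model s2L) 0 4 s2ok_dist_0 j (Nat.zero_le j) h0
  exact allBelow_off (chkDist model s2L) 4 4 s2ok_dist_1 j h0 hj

theorem s2Lok : LOK model s2L where
  t0 := by decide +kernel
  npos := by decide
  nx := s2ok_nx
  par := s2ok_par
  inj := inj_of_dist s2ok_dist

def s2fl_c0 : ℕ := 0xfe
def s2fl (j : ℕ) : ℕ := Nat.land (Nat.shiftRight s2fl_c0 (Nat.mul 1 j)) 1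
def s2cw_c0 : ℕ := 0xd63440
def s2cw (j : ℕ) : ℕ := Nat.land (Nat.shiftRight s2cw_c0 (Nat.mul 3 j)) 7
def s2W (l : ℕ) : ℕ :=
  match l with
  | 0 => 0x33544348945101207a63a3380372037aa2648389803782033
  | 1 => 0x848208388544848976a0a907a68a333087903411257338930
  | 2 => 0x838980443908888677878276a0a307a63a2830849837aa260
  | 3 => 0x843908833544343276a0a207a63a338037208411957383230
  | 4 => 0x37aa260838980443908888677878276a0a307a63a28308498
  | 5 => 0x7a63a2830849837aa260838980443908888677878276a0a3
  | _ => 0x30849887aa260338980483908884677878876a0a327a63a20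
def s2Wi (l : ℕ) : ℕ :=
  match l with
  | 0 => 0x38230433903387547873845a0a824163a90303728341a2603
  | 1 => 0x888930748903338577343246a01804a6819880872334aa950
  | 2 => 0x848208333677378976a0a907a68a8880342087aa964883280
  | 3 => 0x833230743203833577848946a01304a6312830379384aa250
  | 4 => 0x38482087336773a8976a0a907a6828880346087aa90488328
  | 5 => 0x8384827373367a0a897668a907a3428880a96087a2804883
  | _ => 0x37336770a8976a8a907a6428880396087aa80488328384820

def s2D : SData where
  L := s2L
  fl := s2fl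
  cw := s2cw
  nW := 7
  W := s2W
  Wi := s2Wi
  q := 7
  e := 1

theorem s2ok_w_0 : allBelow (fun j => chkW model s2D (Nat.add 0 j)) 7 = true := by decide +kernel
theorem s2ok_w : ∀ j < 7, chkW model s2D j = true := by
  intro j hj
  exact allBelow_off (chkW model s2D) 0 7 s2ok_w_0 j (Nat.zero_le j) hj
theorem s2ok_fl_0 : allBelow (fun j => chkFl model s2D (Nat.add 0 j)) 8 = true := by decide +kernel
theorem s2ok_fl : ∀ j < 8, chkFl model s2D j = true := by
  intro j hj
  exact allBelow_off (chkFl model s2D) 0 8 s2ok_fl_0 j (Nat.zero_le j) hj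

theorem s2ok : SOK model s2D where
  l := s2Lok
  w := s2ok_w
  fl := s2ok_fl

def s2gw (l : ℕ) : List ℕ :=
  match l with
  | 0 => [1, 1, 1, 1, 0, 1, 0]
  | 1 => [0, 1, 1, 1, 1, 0, 1]
  | _ => [1, 1, 1, 1, 0, 0, 1, 0, 0]
def s2ww (l : ℕ) : List ℕ :=
  match l with
  | 0 => [1, 0, 0, 1]
  | 1 => [1, 0, 1, 1]
  | 2 => [1, 1, 0]
  | 3 => [1, 0, 1]
  | 4 => [0, 1, 1, 0]
  | 5 => [0, 0, 0, 1, 1, 0]
  | _ => [0, 0, 1, 1, 0, 0]
theorem s2gw_ok : allBelow (fun l => chkWord model jgen 2 (s2gw l) (s2L.gen l)) 3 = true := by decide +kernel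
theorem s2ww_ok : allBelow (fun c => chkWord model jgen 2 (s2ww c) (s2D.W c)) 7 = true := by decide +kernel

def s3gen (l : ℕ) : ℕ :=
  match l with
  | _ => 0x1566997874087107706a37648264743525703657606224723
def s3T_c0 : ℕ := 0x1807706577643264743626008554986227797a656271347031566997874087107706a376482647435257036576062247231000000010000000100000001000000010000000100000001
def s3T (j : ℕ) : ℕ := Nat.land (Nat.shiftRight s3T_c0 (Nat.mul 196 j)) 100433627766186892221372630771322662657637687111424552206335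
def s3nx0_c0 : ℕ := 0x9
def s3nx0 (j : ℕ) : ℕ := Nat.land (Nat.shiftRight s3nx0_c0 (Nat.mul 2 j)) 3
def s3nx (l j : ℕ) : ℕ :=
  match l with
  | _ => s3nx0 j
def s3par_c0 : ℕ := 0x10
def s3par (j : ℕ) : ℕ := Nat.land (Nat.shiftRight s3par_c0 (Nat.mul 2 j)) 3
def s3lt_c0 : ℕ := 0x0
def s3lt (j : ℕ) : ℕ := Nat.land (Nat.shiftRight s3lt_c0 (Nat.mul 1 j)) 1

def s3L : LData where
  N := 3
  r := 1
  gen := s3gen
  T := s3T
  nx := s3nx
  par := s3par
  lt := s3lt

theorem s3ok_nx_0 : allBelow (fun j => chkNxAll model s3L (Nat.add 0 j)) 3 = true := by decide +kernel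
theorem s3ok_nx : ∀ j < 3, chkNxAll model s3L j = true := by
  intro j hj
  exact allBelow_off (chkNxAll model s3L) 0 3 s3ok_nx_0 j (Nat.zero_le j) hj
theorem s3ok_par_0 : allBelow (fun j => chkPar s3L (Nat.add 0 j)) 2 = true := by decide +kernel
theorem s3ok_par : ∀ j < 2, chkPar s3L j = true := by
  intro j hj
  exact allBelow_off (chkPar s3L) 0 2 s3ok_par_0 j (Nat.zero_le j) hj
theorem s3ok_dist_0 : allBelow (fun j => chkDist model s3L (Nat.add 0 j)) 3 = true := by decide +kernel
theorem s3ok_dist : ∀ j < 3, chkDist model s3L j = true := by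
  intro j hj
  exact allBelow_off (chkDist model s3L) 0 3 s3ok_dist_0 j (Nat.zero_le j) hj

theorem s3Lok : LOK model s3L where
  t0 := by decide +kernel
  npos := by decide
  nx := s3ok_nx
  par := s3ok_par
  inj := inj_of_dist s3ok_dist

def s3fl_c0 : ℕ := 0x6
def s3fl (j : ℕ) : ℕ := Nat.land (Nat.shiftRight s3fl_c0 (Nat.mul 1 j)) 1
def s3cw_c0 : ℕ := 0x0
def s3cw (j : ℕ) : ℕ := Nat.land (Nat.shiftRight s3cw_c0 (Nat.mul 1 j)) 1
def s3W (l : ℕ) : ℕ :=
  match l with
  | _ => 0x10000000110000000100000001000000010000000100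
def s3Wi (l : ℕ) : ℕ :=
  match l with
  | _ => 0x10000000100000001000000010000000110000000100000

def s3D : SData where
  L := s3L
  fl := s3fl
  cw := s3cw
  nW := 1
  W := s3W
  Wi := s3Wi
  q := 7
  e := 1

theorem s3ok_w_0 : allBelow (fun j => chkW model s3D (Nat.add 0 j)) 1 = true := by decide +kernel
theorem s3ok_w : ∀ j < 1, chkW model s3D j = true := by
  intro j hj
  exact allBelow_off (chkW model s3D) 0 1 s3ok_w_0 j (Nat.zero_le j) hj
theorem s3ok_fl_0 : allBelow (fun j => chkFl model s3D (Nat.add 0 j)) 3 = true := by decide +kernel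
theorem s3ok_fl : ∀ j < 3, chkFl model s3D j = true := by
  intro j hj
  exact allBelow_off (chkFl model s3D) 0 3 s3ok_fl_0 j (Nat.zero_le j) hj

theorem s3ok : SOK model s3D where
  l := s3Lok
  w := s3ok_w
  fl := s3ok_fl

def s3gw (l : ℕ) : List ℕ :=
  match l with
  | _ => [1, 0, 1, 0, 1, 0, 0, 0]
def s3ww (l : ℕ) : List ℕ :=
  match l with
  | _ => [0, 0]
theorem s3gw_ok : allBelow (fun l => chkWord model jgen 2 (s3gw l) (s3L.gen l)) 1 = true := by decide +kernel
theorem s3ww_ok : allBelow (fun c => chkWord model jgen 2 (s3ww c) (s3D.W c)) 1 = true := by decide +kernel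

def s5gen (l : ℕ) : ℕ :=
  match l with
  | _ => 0x13119333119331aa288a8a288a8a288a8aa33131198a8aa28
def s5T_c0 : ℕ := 0x13aa23831a283a11288181988a3a938a81a33a8a12318aa984883280848208333677378976a0a907a68a8880342087aa964838980843908888677873276a0a207a63a8830849037aa2613119333119331aa288a8a288a8a288a8aa33131198a8aa281000000010000000100000001000000010000000100000001
def s5T (j : ℕ) : ℕ := Nat.land (Nat.shiftRight s5T_c0 (Nat.mul 196 j)) 100433627766186892221372630771322662657637687111424552206335
def s5nx0_c0 : ℕ := 0x8d1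
def s5nx0 (j : ℕ) : ℕ := Nat.land (Nat.shiftRight s5nx0_c0 (Nat.mul 3 j)) 7
def s5nx (l j : ℕ) : ℕ :=
  match l with
  | _ => s5nx0 j
def s5par_c0 : ℕ := 0x3440
def s5par (j : ℕ) : ℕ := Nat.land (Nat.shiftRight s5par_c0 (Nat.mul 3 j)) 7
def s5lt_c0 : ℕ := 0x0
def s5lt (j : ℕ) : ℕ := Nat.land (Nat.shiftRight s5lt_c0 (Nat.mul 1 j)) 1

def s5L : LData where
  N := 5
  r := 1
  gen := s5gen
  T := s5T
  nx := s5nx
  par := s5par
  lt := s5lt

theorem s5ok_nx_0 : allBelow (fun j => chkNxAll model s5L (Nat.add 0 j)) 5 = true := by decide +kernel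
theorem s5ok_nx : ∀ j < 5, chkNxAll model s5L j = true := by
  intro j hj
  exact allBelow_off (chkNxAll model s5L) 0 5 s5ok_nx_0 j (Nat.zero_le j) hj
theorem s5ok_par_0 : allBelow (fun j => chkPar s5L (Nat.add 0 j)) 4 = true := by decide +kernel
theorem s5ok_par : ∀ j < 4, chkPar s5L j = true := by
  intro j hj
  exact allBelow_off (chkPar s5L) 0 4 s5ok_par_0 j (Nat.zero_le j) hj
theorem s5ok_dist_0 : allBelow (fun j => chkDist model s5L (Nat.add 0 j)) 4 = true := by decide +kernel
theorem s5ok_dist_1 : allBelow (fun j => chkDist model s5L (Nat.add 4 j)) 1 = true := by decide +kernel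
theorem s5ok_dist : ∀ j < 5, chkDist model s5L j = true := by
  intro j hj
  rcases Nat.lt_or_ge j 4 with h0 | h0
  · exact allBelow_off (chkDist model s5L) 0 4 s5ok_dist_0 j (Nat.zero_le j) h0
  exact allBelow_off (chkDist model s5L) 4 1 s5ok_dist_1 j h0 hj

theorem s5Lok : LOK model s5L where
  t0 := by decide +kernel
  npos := by decide
  nx := s5ok_nx
  par := s5ok_par
  inj := inj_of_dist s5ok_dist

def s5fl_c0 : ℕ := 0x1e
def s5fl (j : ℕ) : ℕ := Nat.land (Nat.shiftRight s5fl_c0 (Nat.mul 1 j)) 1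
def s5cw_c0 : ℕ := 0x50
def s5cw (j : ℕ) : ℕ := Nat.land (Nat.shiftRight s5cw_c0 (Nat.mul 2 j)) 3
def s5W (l : ℕ) : ℕ :=
  match l with
  | 0 => 0x3119331aa288a81933131933131188a8aa28a8aa28a8aa288
  | _ => 0x83230733908884544343376a0a327a63a2080372334119508
def s5Wi (l : ℕ) : ℕ :=
  match l with
  | 0 => 0x3a1988a1a938a81233a8a98318aa3813aa23a31a281811288
  | _ => 0x83577843946a01204a6313830379084aa2578332303432038

def s5D : SData where
  L := s5L
  fl := s5fl
  cw := s5cw
  nW := 2
  W := s5W
  Wi := s5Wi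
  q := 7
  e := 1

theorem s5ok_w_0 : allBelow (fun j => chkW model s5D (Nat.add 0 j)) 2 = true := by decide +kernel
theorem s5ok_w : ∀ j < 2, chkW model s5D j = true := by
  intro j hj
  exact allBelow_off (chkW model s5D) 0 2 s5ok_w_0 j (Nat.zero_le j) hj
theorem s5ok_fl_0 : allBelow (fun j => chkFl model s5D (Nat.add 0 j)) 5 = true := by decide +kernel
theorem s5ok_fl : ∀ j < 5, chkFl model s5D j = true := by
  intro j hj
  exact allBelow_off (chkFl model s5D) 0 5 s5ok_fl_0 j (Nat.zero_le j) hj

theorem s5ok : SOK model s5D where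
  l := s5Lok
  w := s5ok_w
  fl := s5ok_fl

def s5gw (l : ℕ) : List ℕ :=
  match l with
  | _ => [1]
def s5ww (l : ℕ) : List ℕ :=
  match l with
  | 0 => [0, 0, 1, 0, 0, 0]
  | _ => [0, 1, 0, 1, 0, 0]
theorem s5gw_ok : allBelow (fun l => chkWord model jgen 2 (s5gw l) (s5L.gen l)) 1 = true := by decide +kernel
theorem s5ww_ok : allBelow (fun c => chkWord model jgen 2 (s5ww c) (s5D.W c)) 2 = true := by decide +kernel

def s11gen (l : ℕ) : ℕ :=
  match l with
  | _ => 0x838980443908888677878276a0a307a63a2830849837aa260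
def s11T_c0 : ℕ := 0x848208333677378976a0a907a68a8880342087aa964883280567381282281252762a6695166948251293a169a93959296a4228373aaa359996903844381a804814742796a53832a8296812623973a03a842889847a72874aa6213276632a822346082049721395a40a998040a995819857a6382a7840788a213a323995a8099977a4585a829a086417441303200987a1aa82838747a72132aa622a87663608223423981263a873a098442884a944732a638922a9816a83014a8353a7527988439394028658298a962752157261569382619281a62a91269996256433a838980443908888677878276a0a307a63a2830849837aa2601000000010000000100000001000000010000000100000001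
def s11T (j : ℕ) : ℕ := Nat.land (Nat.shiftRight s11T_c0 (Nat.mul 196 j)) 100433627766186892221372630771322662657637687111424552206335
def s11nx0_c0 : ℕ := 0xa987654321
def s11nx0 (j : ℕ) : ℕ := Nat.land (Nat.shiftRight s11nx0_c0 (Nat.mul 4 j)) 15
def s11nx (l j : ℕ) : ℕ :=
  match l with
  | _ => s11nx0 j
def s11par_c0 : ℕ := 0x98765432100
def s11par (j : ℕ) : ℕ := Nat.land (Nat.shiftRight s11par_c0 (Nat.mul 4 j)) 15
def s11lt_c0 : ℕ := 0x0
def s11lt (j : ℕ) : ℕ := Nat.land (Nat.shiftRight s11lt_c0 (Nat.mul 1 j)) 1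

def s11L : LData where
  N := 11
  r := 1
  gen := s11gen
  T := s11T
  nx := s11nx
  par := s11par
  lt := s11lt

theorem s11ok_nx_0 : allBelow (fun j => chkNxAll model s11L (Nat.add 0 j)) 11 = true := by decide +kernel
theorem s11ok_nx : ∀ j < 11, chkNxAll model s11L j = true := by
  intro j hj
  exact allBelow_off (chkNxAll model s11L) 0 11 s11ok_nx_0 j (Nat.zero_le j) hj
theorem s11ok_par_0 : allBelow (fun j => chkPar s11L (Nat.add 0 j)) 10 = true := by decide +kernel
theorem s11ok_par : ∀ j < 10, chkPar s11L j = true := by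
  intro j hj
  exact allBelow_off (chkPar s11L) 0 10 s11ok_par_0 j (Nat.zero_le j) hj
theorem s11ok_dist_0 : allBelow (fun j => chkDist model s11L (Nat.add 0 j)) 4 = true := by decide +kernel
theorem s11ok_dist_1 : allBelow (fun j => chkDist model s11L (Nat.add 4 j)) 4 = true := by decide +kernel
theorem s11ok_dist_2 : allBelow (fun j => chkDist model s11L (Nat.add 8 j)) 3 = true := by decide +kernel
theorem s11ok_dist : ∀ j < 11, chkDist model s11L j = true := by
  intro j hj
  rcases Nat.lt_or_ge j 4 with h0 | h0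
  · exact allBelow_off (chkDist model s11L) 0 4 s11ok_dist_0 j (Nat.zero_le j) h0
  rcases Nat.lt_or_ge j 8 with h1 | h1
  · exact allBelow_off (chkDist model s11L) 4 4 s11ok_dist_1 j h0 h1
  exact allBelow_off (chkDist model s11L) 8 3 s11ok_dist_2 j h1 hj

theorem s11Lok : LOK model s11L where
  t0 := by decide +kernel
  npos := by decide
  nx := s11ok_nx
  par := s11ok_par
  inj := inj_of_dist s11ok_dist

def s11fl_c0 : ℕ := 0x7fe
def s11fl (j : ℕ) : ℕ := Nat.land (Nat.shiftRight s11fl_c0 (Nat.mul 1 j)) 1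
def s11cw_c0 : ℕ := 0x0
def s11cw (j : ℕ) : ℕ := Nat.land (Nat.shiftRight s11cw_c0 (Nat.mul 1 j)) 1
def s11W (l : ℕ) : ℕ :=
  match l with
  | _ => 0xaa288a81933131933131188a8aa28a8aa28a8aa2883119331
def s11Wi (l : ℕ) : ℕ :=
  match l with
  | _ => 0xa1988a3a938a81233a8a18318aa9813aa23a31a2838112881

def s11D : SData where
  L := s11L
  fl := s11fl
  cw := s11cw
  nW := 1
  W := s11W
  Wi := s11Wi
  q := 7
  e := 1

theorem s11ok_w_0 : allBelow (fun j => chkW model s11D (Nat.add 0 j)) 1 = true := by decide +kernel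
theorem s11ok_w : ∀ j < 1, chkW model s11D j = true := by
  intro j hj
  exact allBelow_off (chkW model s11D) 0 1 s11ok_w_0 j (Nat.zero_le j) hj
theorem s11ok_fl_0 : allBelow (fun j => chkFl model s11D (Nat.add 0 j)) 11 = true := by decide +kernel
theorem s11ok_fl : ∀ j < 11, chkFl model s11D j = true := by
  intro j hj
  exact allBelow_off (chkFl model s11D) 0 11 s11ok_fl_0 j (Nat.zero_le j) hj

theorem s11ok : SOK model s11D where
  l := s11Lok
  w := s11ok_w
  fl := s11ok_fl

def s11gw (l : ℕ) : List ℕ :=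
  match l with
  | _ => [1, 1, 0]
def s11ww (l : ℕ) : List ℕ :=
  match l with
  | _ => [0, 1, 0, 0, 0]
theorem s11gw_ok : allBelow (fun l => chkWord model jgen 2 (s11gw l) (s11L.gen l)) 1 = true := by decide +kernel
theorem s11ww_ok : allBelow (fun c => chkWord model jgen 2 (s11ww c) (s11D.W c)) 1 = true := by decide +kernel

def s19gen (l : ℕ) : ℕ :=
  match l with
  | _ => 0x1933131933131188a8aa28a8aa28a8aa2883119331aa288a8
def s19T_c0 : ℕ := 0x1988a3a938a81a33a8a12318aa9813aa23831a283a1128818510a397153a20708723881126087893078890333484487836469166261559492612283a62193a52295126438a96923a2584959088978a477639a39921a135207331a3872616334923875432674485967786676009277285556227177034187405130a93a16996a959281256731258228a6627626949516293825140936890a7183324478418a75936538992183789492816121227700725a147941219454a1777a07970940774209425a42a3479181446796845a83252480968a23910286950a6a3582573442a8a445426376a83959780958193910286260a518582672244004251a7727a21975711774a04970240747902795a49a40285820a4a33897478713175986688999183432429316191a981a6296126993a25643a958298156275269726159238261548957748625743567600297723566622417708713470518049620839731774589a3299aa136204331138795a688792337462a56961662429512233152198a69295a26483195293a268510189415819040372338aa260373230738908884377878861933131933131188a8aa28a8aa28a8aa2883119331aa288a81000000010000000100000001000000010000000100000001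
def s19T (j : ℕ) : ℕ := Nat.land (Nat.shiftRight s19T_c0 (Nat.mul 196 j)) 100433627766186892221372630771322662657637687111424552206335
def s19nx0_c0 : ℕ := 0x25183dcd62d4941cc520c41
def s19nx0 (j : ℕ) : ℕ := Nat.land (Nat.shiftRight s19nx0_c0 (Nat.mul 5 j)) 31
def s19nx (l j : ℕ) : ℕ :=
  match l with
  | _ => s19nx0 j
def s19par_c0 : ℕ := 0x460f7358b525073148310400
def s19par (j : ℕ) : ℕ := Nat.land (Nat.shiftRight s19par_c0 (Nat.mul 5 j)) 31
def s19lt_c0 : ℕ := 0x0
def s19lt (j : ℕ) : ℕ := Nat.land (Nat.shiftRight s19lt_c0 (Nat.mul 1 j)) 1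

def s19L : LData where
  N := 19
  r := 1
  gen := s19gen
  T := s19T
  nx := s19nx
  par := s19par
  lt := s19lt

theorem s19ok_nx_0 : allBelow (fun j => chkNxAll model s19L (Nat.add 0 j)) 19 = true := by decide +kernel
theorem s19ok_nx : ∀ j < 19, chkNxAll model s19L j = true := by
  intro j hj
  exact allBelow_off (chkNxAll model s19L) 0 19 s19ok_nx_0 j (Nat.zero_le j) hj
theorem s19ok_par_0 : allBelow (fun j => chkPar s19L (Nat.add 0 j)) 18 = true := by decide +kernel
theorem s19ok_par : ∀ j < 18, chkPar s19L j = true := by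
  intro j hj
  exact allBelow_off (chkPar s19L) 0 18 s19ok_par_0 j (Nat.zero_le j) hj
theorem s19ok_dist_0 : allBelow (fun j => chkDist model s19L (Nat.add 0 j)) 4 = true := by decide +kernel
theorem s19ok_dist_1 : allBelow (fun j => chkDist model s19L (Nat.add 4 j)) 4 = true := by decide +kernel
theorem s19ok_dist_2 : allBelow (fun j => chkDist model s19L (Nat.add 8 j)) 4 = true := by decide +kernel
theorem s19ok_dist_3 : allBelow (fun j => chkDist model s19L (Nat.add 12 j)) 4 = true := by decide +kernel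
theorem s19ok_dist_4 : allBelow (fun j => chkDist model s19L (Nat.add 16 j)) 3 = true := by decide +kernel
theorem s19ok_dist : ∀ j < 19, chkDist model s19L j = true := by
  intro j hj
  rcases Nat.lt_or_ge j 4 with h0 | h0
  · exact allBelow_off (chkDist model s19L) 0 4 s19ok_dist_0 j (Nat.zero_le j) h0
  rcases Nat.lt_or_ge j 8 with h1 | h1
  · exact allBelow_off (chkDist model s19L) 4 4 s19ok_dist_1 j h0 h1
  rcases Nat.lt_or_ge j 12 with h2 | h2
  · exact allBelow_off (chkDist model s19L) 8 4 s19ok_dist_2 j h1 h2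
  rcases Nat.lt_or_ge j 16 with h3 | h3
  · exact allBelow_off (chkDist model s19L) 12 4 s19ok_dist_3 j h2 h3
  exact allBelow_off (chkDist model s19L) 16 3 s19ok_dist_4 j h3 hj

theorem s19Lok : LOK model s19L where
  t0 := by decide +kernel
  npos := by decide
  nx := s19ok_nx
  par := s19ok_par
  inj := inj_of_dist s19ok_dist

def s19fl_c0 : ℕ := 0x7fffe
def s19fl (j : ℕ) : ℕ := Nat.land (Nat.shiftRight s19fl_c0 (Nat.mul 1 j)) 1
def s19cw_c0 : ℕ := 0xa625a95b03440
def s19cw (j : ℕ) : ℕ := Nat.land (Nat.shiftRight s19cw_c0 (Nat.mul 3 j)) 7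
def s19W (l : ℕ) : ℕ :=
  match l with
  | 0 => 0xa8aa28831193311193313a288a8a288a8aa88a8aa23131193
  | 1 => 0x838980443908888677878276a0a307a63a2830849837aa260
  | 2 => 0x288a8aa33131198a8aa2813119333119331aa288a8a288a8a
  | 3 => 0x33131198a8aa2813119333119331aa288a8a288a8a288a8aa
  | 4 => 0x38980483908884677878876a0a327a63a2030849887aa2603
  | _ => 0x7383230843908833544343276a0a207a63a33803720841195
def s19Wi (l : ℕ) : ℕ :=
  match l with
  | 0 => 0xa31a2838112881a1988a3a938a81233a8a18318aa9813aa23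
  | 1 => 0x848208333677378976a0a907a68a8880342087aa964883280
  | 2 => 0x23813aa83a31a28181128a3a198881a938aa1233a8a98318a
  | 3 => 0x3813aa23a31a2818112883a1988a1a938a81233a8a98318aa
  | 4 => 0x33677378976a0a907a68a8880342087aa9648832808482083
  | _ => 0x7833230343203883577843946a01204a6313830379084aa25

def s19D : SData where
  L := s19L
  fl := s19fl
  cw := s19cw
  nW := 6
  W := s19W
  Wi := s19Wi
  q := 7
  e := 1

theorem s19ok_w_0 : allBelow (fun j => chkW model s19D (Nat.add 0 j)) 6 = true := by decide +kernel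
theorem s19ok_w : ∀ j < 6, chkW model s19D j = true := by
  intro j hj
  exact allBelow_off (chkW model s19D) 0 6 s19ok_w_0 j (Nat.zero_le j) hj
theorem s19ok_fl_0 : allBelow (fun j => chkFl model s19D (Nat.add 0 j)) 19 = true := by decide +kernel
theorem s19ok_fl : ∀ j < 19, chkFl model s19D j = true := by
  intro j hj
  exact allBelow_off (chkFl model s19D) 0 19 s19ok_fl_0 j (Nat.zero_le j) hj

theorem s19ok : SOK model s19D where
  l := s19Lok
  w := s19ok_w
  fl := s19ok_fl

def s19gw (l : ℕ) : List ℕ :=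
  match l with
  | _ => [1, 0, 0, 0]
def s19ww (l : ℕ) : List ℕ :=
  match l with
  | 0 => [0, 1, 0]
  | 1 => [1, 1, 0]
  | 2 => [0, 0, 0, 1]
  | 3 => [0, 0, 1]
  | 4 => [1, 1, 0, 0]
  | _ => [0, 1, 0, 1]
theorem s19gw_ok : allBelow (fun l => chkWord model jgen 2 (s19gw l) (s19L.gen l)) 1 = true := by decide +kernel
theorem s19ww_ok : allBelow (fun c => chkWord model jgen 2 (s19ww c) (s19D.W c)) 6 = true := by decide +kernel

def qgen (l : ℕ) : ℕ :=
  match l with
  | 0 => Xp
  | _ => 0x4487836510a397a6819040349833aa9503489307882088873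
def qgw (l : ℕ) : List ℕ :=
  match l with
  | 0 => [0]
  | _ => [1, 1, 0, 1, 1, 1]
def wYq : List ℕ := [1, 0, 1, 1, 1, 0, 0, 1, 1, 1, 1, 1, 1, 0, 0]
theorem qgw_ok : allBelow (fun l => chkWord model jgen 2 (qgw l) (qgen l)) 2 = true := by decide +kernel
theorem wYq_ok : chkWord model qgen 2 wYq Yp = true := by decide +kernel
theorem qord_ok : allBelow (fun l => Nat.beq (model.powP (qgen l) 7) model.oneP && model.neq (qgen l) model.oneP) 2 = true := by
  decide +kernel

end Cfsg.Agent.Lib.Helper60.J1
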